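/-
The Sylow 2-subgroup of SU₃(q), q even, as a group of pairs.
-/
import Cfsg.Agent.Lib.Classical.Hermitian
import Cfsg.Prelude.Def_LieRecognition

set_option autoImplicit false

namespace Cfsg.Agent.SU3Sylow

open Hermitian

universe u

variable {F : Type u} [Field F] [CharP F 2] {σ : F →+* F}

/-- Pairs `(a, b)` with `b + σ b + a σ a = 0`. -/
@[ext]
structure Heis (σ : F →+* F) : Type u where
  a : F
  b : F
  eq : b + σ b + a * σ a = 0

/-- `σ` is an involution. -/
class Inv2 (σ : F →+* F) : Prop where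
  inv2 : ∀ x, σ (σ x) = x

variable [hi : Inv2 σ]

namespace Heis

instance : Mul (Heis σ) :=
  ⟨fun x y => ⟨x.a + y.a, x.b + y.b + σ x.a * y.a, by
    have h1 := x.eq
    have h2 := y.eq
    simp only [map_add, map_mul, hi.inv2]
    have e : (2 : F) = 0 := CharTwo.two_eq_zero
    linear_combination h1 + h2 + (σ x.a * y.a + x.a * σ y.a) * e⟩⟩

instance : One (Heis σ) := ⟨⟨0, 0, by simp⟩⟩

instance : Inv (Heis σ) :=
  ⟨fun x => ⟨x.a, σ x.b, by
    have h1 := x.eq
    rw [hi.inv2]
    linear_combination h1⟩⟩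

@[simp] theorem one_a : (1 : Heis σ).a = 0 := rfl
@[simp] theorem one_b : (1 : Heis σ).b = 0 := rfl
@[simp] theorem mul_a (x y : Heis σ) : (x * y).a = x.a + y.a := rfl
@[simp] theorem mul_b (x y : Heis σ) : (x * y).b = x.b + y.b + σ x.a * y.a := rfl
@[simp] theorem inv_a (x : Heis σ) : x⁻¹.a = x.a := rfl
@[simp] theorem inv_b (x : Heis σ) : x⁻¹.b = σ x.b := rfl

instance : Group (Heis σ) := Group.ofLeftAxioms
  (fun x y z => by
    ext
    · simp [add_assoc]
    · simp only [mul_b, mul_a, map_add]; ring)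
  (fun x => by ext <;> simp)
  (fun x => by
    have h1 := x.eq
    ext
    · simp [CharTwo.add_self_eq_zero]
    · simp only [mul_b, inv_b, inv_a, one_b]; linear_combination h1)

instance [Finite F] : Finite (Heis σ) :=
  Finite.of_injective (fun x => (x.a, x.b)) fun x y h =>
    Heis.ext (congrArg Prod.fst h) (congrArg Prod.snd h)

omit [CharP F 2] hi in
theorem fixed_norm [Inv2 σ] (a : F) : a * σ a ∈ fixed σ := by
  rw [mem_fixed, map_mul, Inv2.inv2, mul_comm]

theorem b_fixed {x : Heis σ} (hx : x.a = 0) : x.b ∈ fixed σ := by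
  have h := x.eq
  rw [hx] at h
  rw [mem_fixed]
  exact (CharTwo.add_eq_zero.1 (by simpa using h)).symm

/-- The element `(0, c)` for fixed `c`. -/
def cen (c : fixed σ) : Heis σ :=
  ⟨0, c, by rw [c.2, map_zero, mul_zero, add_zero]; exact CharTwo.add_self_eq_zero _⟩

@[simp] theorem cen_a (c : fixed σ) : (cen c).a = 0 := rfl
@[simp] theorem cen_b (c : fixed σ) : (cen c).b = c := rfl

theorem eq_cen {x : Heis σ} (hx : x.a = 0) : x = cen ⟨x.b, b_fixed hx⟩ := Heis.ext hx rfl

theorem mul_self (x : Heis σ) : x * x = cen ⟨x.a * σ x.a, fixed_norm x.a⟩ := by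
  ext
  · simp [CharTwo.add_self_eq_zero]
  · simp [CharTwo.add_self_eq_zero, mul_comm]

theorem mul_self_eq_one_iff (x : Heis σ) : x * x = 1 ↔ x.a = 0 := by
  rw [mul_self, Heis.ext_iff]
  simp

theorem comm_iff (x y : Heis σ) : x * y = y * x ↔ σ x.a * y.a = σ y.a * x.a := by
  rw [Heis.ext_iff]
  simp only [mul_a, mul_b, add_comm x.a y.a, true_and]
  rw [add_comm x.b y.b]
  exact add_right_inj _

theorem isPGroup : IsPGroup 2 (Heis σ) := fun x => ⟨2, by
  rw [show 2 ^ 2 = 2 * 2 from rfl, pow_mul, pow_two x, pow_two]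
  simp [mul_self_eq_one_iff, CharTwo.add_self_eq_zero]⟩

section Finite

variable [Finite F]

theorem exists_mk (hne : σ ≠ RingHom.id F) (a : F) : ∃ x : Heis σ, x.a = a := by
  haveI := Fintype.ofFinite F
  obtain ⟨b, hb⟩ := exists_trace hne hi.inv2 (x := a * σ a) (fixed_norm a)
  exact ⟨⟨a, b, by rw [hb]; exact CharTwo.add_self_eq_zero _⟩, rfl⟩

theorem mem_center_iff (hne : σ ≠ RingHom.id F) (x : Heis σ) :
    x ∈ Subgroup.center (Heis σ) ↔ x.a = 0 := by
  rw [Subgroup.mem_center_iff]
  constructor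
  · intro h
    by_contra ha
    obtain ⟨t, ht⟩ : ∃ t, σ t ≠ t := by
      by_contra! hall
      exact hne (RingHom.ext hall)
    obtain ⟨y, hy⟩ := exists_mk hne (x.a * t)
    have := (comm_iff x y).1 (h y).symm
    rw [hy, map_mul] at this
    exact ht (mul_left_cancel₀ (mul_ne_zero ((map_ne_zero σ).2 ha) ha)
      (by linear_combination -this))
  · intro hx y
    rw [comm_iff, hx, map_zero, mul_zero, zero_mul]

theorem card_eq {q : ℕ} (hne : σ ≠ RingHom.id F) (hq : Nat.card (fixed σ) = q) :
    Nat.card (Heis σ) = q ^ 3 := by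
  haveI := Fintype.ofFinite F
  have e : Heis σ ≃ F × fixed σ :=
    { toFun := fun x => (x.a, ⟨x.b + (exists_mk (σ := σ) hne x.a).choose.b, by
        have h1 := x.eq
        have h2 := (exists_mk (σ := σ) hne x.a).choose.eq
        rw [(exists_mk (σ := σ) hne x.a).choose_spec] at h2
        rw [mem_fixed, map_add, ← CharTwo.add_eq_zero]
        linear_combination h1 + h2 - x.a * σ x.a * (CharTwo.two_eq_zero (R := F))⟩)
      invFun := fun p => (cen p.2) * (exists_mk (σ := σ) hne p.1).choose
      left_inv := fun x => by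
        have hs := (exists_mk (σ := σ) hne x.a).choose_spec
        ext
        · simp [hs]
        · simp only [mul_b, cen_a, cen_b, map_zero, zero_mul, add_zero]
          rw [add_assoc, CharTwo.add_self_eq_zero, add_zero]
      right_inv := fun p => by
        obtain ⟨a, c, hc⟩ := p
        have hs := (exists_mk (σ := σ) hne a).choose_spec
        have ha : (cen ⟨c, hc⟩ * (exists_mk (σ := σ) hne a).choose).a = a := by simp [hs]
        refine Prod.ext ha (Subtype.ext ?_)
        show (cen ⟨c, hc⟩ * (exists_mk (σ := σ) hne a).choose).b + _ = c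
        simp only [ha, mul_b, cen_a, cen_b, map_zero, zero_mul, add_zero]
        rw [add_assoc, CharTwo.add_self_eq_zero, add_zero] }
  rw [Nat.card_congr e, Nat.card_prod, card_eq_sq hne hi.inv2, hq]
  ring

theorem card_center {q : ℕ} (hne : σ ≠ RingHom.id F) (hq : Nat.card (fixed σ) = q) :
    Nat.card (Subgroup.center (Heis σ)) = q := by
  rw [← hq]
  exact Nat.card_congr
    { toFun := fun x => ⟨x.1.b, b_fixed ((mem_center_iff hne x.1).1 x.2)⟩
      invFun := fun c => ⟨cen c, (mem_center_iff hne _).2 rfl⟩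
      left_inv := fun x => Subtype.ext (eq_cen ((mem_center_iff hne x.1).1 x.2)).symm
      right_inv := fun c => rfl }

end Finite

/-- The automorphism `(a, b) ↦ (m f a, m σm f b)`. -/
def scale (f : F ≃+* F) (hf : ∀ x, f (σ x) = σ (f x)) (m : Fˣ) : MulAut (Heis σ) :=
  MulEquiv.mk'
    { toFun := fun x => ⟨m * f x.a, m * σ (m : F) * f x.b, by
        have h := congrArg f x.eq
        simp only [map_add, map_mul, map_zero, hf] at h
        simp only [map_mul, hi.inv2]
        linear_combination ((m : F) * σ (m : F)) * h⟩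
      invFun := fun x => ⟨f.symm ((↑m⁻¹ : F) * x.a),
          f.symm ((↑m⁻¹ : F) * σ (↑m⁻¹ : F) * x.b), by
        apply f.injective
        have h := x.eq
        simp only [map_add, map_mul, map_zero, hf, RingEquiv.apply_symm_apply, hi.inv2]
        linear_combination ((↑m⁻¹ : F) * σ (↑m⁻¹ : F)) * h⟩
      left_inv := fun x => by
        have h1 : (↑m⁻¹ : F) * m = 1 := by simp
        have h2 : σ (↑m⁻¹ : F) * σ (m : F) = 1 := by rw [← map_mul, h1, map_one]
        ext
        · apply f.injective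
          simp only [RingEquiv.apply_symm_apply]
          linear_combination (f x.a) * h1
        · apply f.injective
          simp only [RingEquiv.apply_symm_apply]
          linear_combination (f x.b) * (σ (↑m⁻¹ : F) * σ (m : F)) * h1 + (f x.b) * h2
      right_inv := fun x => by
        have h1 : (m : F) * (↑m⁻¹ : F) = 1 := by simp
        have h2 : σ (m : F) * σ (↑m⁻¹ : F) = 1 := by rw [← map_mul, h1, map_one]
        ext
        · simp only [RingEquiv.apply_symm_apply]
          linear_combination x.a * h1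
        · simp only [RingEquiv.apply_symm_apply]
          linear_combination x.b * (σ (m : F) * σ (↑m⁻¹ : F)) * h1 + x.b * h2 }
    (fun x y => by
      ext
      · show (m : F) * f (x * y).a = m * f x.a + m * f y.a
        rw [mul_a, map_add, mul_add]
      · show (m : F) * σ (m : F) * f (x * y).b = m * σ (m : F) * f x.b + m * σ (m : F) * f y.b
          + σ ((m : F) * f x.a) * (m * f y.a)
        rw [mul_b, map_add, map_add, map_mul, map_mul, hf]
        ring)

@[simp] theorem scale_a (f : F ≃+* F) (hf : ∀ x, f (σ x) = σ (f x)) (m : Fˣ) (x : Heis σ) :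
    (scale f hf m x).a = m * f x.a := rfl

@[simp] theorem scale_b (f : F ≃+* F) (hf : ∀ x, f (σ x) = σ (f x)) (m : Fˣ) (x : Heis σ) :
    (scale f hf m x).b = m * σ (m : F) * f x.b := rfl

/-- Scaling by nonzero fixed elements. -/
def scaleHom : (fixed σ)ˣ →* MulAut (Heis σ) where
  toFun m := scale (RingEquiv.refl F) (fun _ => rfl) (Units.map (fixed σ).subtype.toMonoidHom m)
  map_one' := by
    refine MulEquiv.ext fun x => Heis.ext ?_ ?_
    · show _ * x.a = x.a; simp
    · show _ * σ _ * x.b = x.b; simp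
  map_mul' m m' := by
    refine MulEquiv.ext fun x => Heis.ext ?_ ?_
    · show ((m * m' : (fixed σ)ˣ) : fixed σ).1 * x.a = _
      rw [Units.val_mul, Subfield.coe_mul, mul_assoc]
      rfl
    · show ((m * m' : (fixed σ)ˣ) : fixed σ).1 * σ ((m * m' : (fixed σ)ˣ) : fixed σ).1 * x.b = _
      show _ = (m : fixed σ).1 * σ (m : fixed σ).1 * ((m' : fixed σ).1 * σ (m' : fixed σ).1 * x.b)
      rw [Units.val_mul, Subfield.coe_mul, map_mul]
      ring

theorem scaleHom_cen_b (m : (fixed σ)ˣ) (c : fixed σ) :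
    (scaleHom m (cen c)).b = (m : fixed σ).1 ^ 2 * c := by
  show (m : fixed σ).1 * σ (m : fixed σ).1 * c = _
  rw [(mem_fixed).1 (m : fixed σ).2]
  ring

theorem isSuzukiTwoGroup [Finite F] (hne : σ ≠ RingHom.id F) (hq : 2 < Nat.card (fixed σ)) :
    Cfsg.IsSuzukiTwoGroup (Heis σ) := by
  classical
  haveI := Fintype.ofFinite F
  have hone : ∀ x : Heis σ, x ≠ 1 → x.a = 0 → x.b ≠ 0 := fun x hx ha hb =>
    hx (Heis.ext (ha.trans one_a.symm) (hb.trans one_b.symm))
  refine ⟨inferInstance, isPGroup, ?_, ?_, scaleHom.range, ?_, ?_⟩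
  · obtain ⟨x, hx⟩ := exists_mk (σ := σ) hne 1
    by_contra! h
    have := (mem_center_iff hne x).1 (Subgroup.mem_center_iff.2 fun y => h y x)
    exact one_ne_zero (hx.symm.trans this)
  · haveI := Fintype.ofFinite (fixed σ)
    obtain ⟨c, hc0, hc1⟩ : ∃ c : fixed σ, c ≠ 0 ∧ c ≠ 1 := by
      by_contra! h
      have hsub : (Finset.univ : Finset (fixed σ)) ⊆ {0, 1} := fun c _ => by
        by_cases h0 : c = 0
        · simp [h0]
        · simp [h c h0]
      have := (Finset.card_le_card hsub).trans Finset.card_le_two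
      rw [Finset.card_univ, ← Nat.card_eq_fintype_card] at this
      omega
    refine ⟨cen c, cen 1, fun e => hc1 (Subtype.ext (congrArg Heis.b e)),
      fun e => hc0 (Subtype.ext (congrArg Heis.b e)), (mul_self_eq_one_iff _).2 rfl,
      fun e => one_ne_zero (α := F) (congrArg Heis.b e), (mul_self_eq_one_iff _).2 rfl⟩
  · exact isCyclic_of_surjective (scaleHom (σ := σ)).rangeRestrict
      (scaleHom (σ := σ)).rangeRestrict_surjective
  · intro x y hx hx2 hy hy2
    have hxa := (mul_self_eq_one_iff x).1 hx2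
    have hya := (mul_self_eq_one_iff y).1 hy2
    have hxb := hone x hx hxa
    have hyb := hone y hy hya
    have key : ∀ m : (fixed σ)ˣ, scaleHom m x = y ↔ (m : fixed σ).1 ^ 2 * x.b = y.b := by
      intro m
      rw [eq_cen hxa, Heis.ext_iff, scaleHom_cen_b, hya]
      refine ⟨fun h => h.2, fun h => ⟨?_, h⟩⟩
      show (m : fixed σ).1 * 0 = 0
      simp
    haveI : CharP (fixed σ) 2 := (RingHom.charP_iff (fixed σ).subtype Subtype.coe_injective 2).2 ‹_›
    obtain ⟨r, hr⟩ := (isSquare_of_charTwo' (R := fixed σ)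
      (⟨y.b, b_fixed hya⟩ * ⟨x.b, b_fixed hxa⟩⁻¹) : IsSquare _)
    have hr' : r.1 * r.1 * x.b = y.b := by
      have := congrArg Subtype.val hr
      simp only [Subfield.coe_mul, Subfield.coe_inv] at this
      rw [← this, mul_assoc, inv_mul_cancel₀ hxb, mul_one]
    have hr0 : r ≠ 0 := fun e => hyb (by rw [← hr', e]; simp)
    refine ⟨⟨scaleHom (Units.mk0 r hr0), ⟨_, rfl⟩⟩, (key _).2 (by rw [pow_two]; exact hr'), ?_⟩
    rintro ⟨_, m, rfl⟩ hm
    have e := (key m).1 hm
    rw [← hr', ← pow_two] at e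
    have e2 := mul_right_cancel₀ hxb e
    refine Subtype.ext (congrArg scaleHom (Units.ext (Subtype.ext ?_)))
    exact CharTwo.sq_injective e2

end Heis

theorem suzuki_of_equiv {P Q : Type*} [Group P] [Group Q] (e : P ≃* Q)
    (h : Cfsg.IsSuzukiTwoGroup P) : Cfsg.IsSuzukiTwoGroup Q := by
  obtain ⟨hfin, hp, ⟨x, y, hxy⟩, ⟨u, v, huv, hu, hu2, hv, hv2⟩, K, hK, huniq⟩ := h
  refine ⟨Finite.of_equiv _ e.toEquiv, hp.of_equiv e, ⟨e x, e y, fun h => hxy
    (e.injective (by rwa [map_mul, map_mul]))⟩,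
    ⟨e u, e v, e.injective.ne huv, fun h => hu (e.map_eq_one_iff.1 h), by rw [← map_mul, hu2, map_one],
      fun h => hv (e.map_eq_one_iff.1 h), by rw [← map_mul, hv2, map_one]⟩,
    K.map (MulAut.congr e).toMonoidHom, ?_, fun x y hx hx2 hy hy2 => ?_⟩
  · exact isCyclic_of_surjective (K.equivMapOfInjective _ (MulAut.congr e).injective).toMonoidHom
      (K.equivMapOfInjective _ (MulAut.congr e).injective).surjective
  · obtain ⟨k, hk, hk'⟩ := huniq (e.symm x) (e.symm y) (by simpa using hx)
      (by rw [← map_mul, hx2, map_one]) (by simpa using hy) (by rw [← map_mul, hy2, map_one])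
    refine ⟨⟨MulAut.congr e k, Subgroup.mem_map_of_mem _ k.2⟩, ?_, ?_⟩
    · show e ((k : MulAut P) (e.symm x)) = y
      rw [hk, MulEquiv.apply_symm_apply]
    · rintro ⟨_, k', hk'K, rfl⟩ hm
      refine Subtype.ext (congrArg (MulAut.congr e) (congrArg Subtype.val (hk' ⟨k', hk'K⟩ ?_)))
      exact e.injective (by rw [MulEquiv.apply_symm_apply]; exact hm)

end Cfsg.Agent.SU3Sylow
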