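/-
The Sylow 2-subgroups of SU₃(q) and PSU₃(q), q even, are Heisenberg groups of pairs.
-/
import Cfsg.Agent.Lib.SU3Sylow.Heis
import Cfsg.Agent.Lib.Classical.HermSU

set_option autoImplicit false

namespace Cfsg.Agent.SU3Sylow

open Matrix Hermitian

universe u

theorem exists_equiv_sylow {H G : Type*} [Group H] [Group G] [Finite G] (f : H →* G)
    (hinj : Function.Injective f) {k m : ℕ} (hH : Nat.card H = 2 ^ k)
    (hG : Nat.card G = 2 ^ k * m) (hm : Odd m) (P : Sylow 2 G) : Nonempty (↥(P : Subgroup G) ≃* H) := by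
  have hc : Nat.card f.range = 2 ^ k := by
    rw [← hH]
    exact Nat.card_congr (MonoidHom.ofInjective hinj).symm.toEquiv
  obtain ⟨Q, hQ⟩ := (IsPGroup.of_card hc).exists_le_sylow
  obtain ⟨j, hj⟩ := IsPGroup.iff_card.1 Q.2
  have hdvd : 2 ^ j ∣ 2 ^ k * m := by rw [← hj, ← hG]; exact Subgroup.card_subgroup_dvd_card _
  have h1 : 2 ^ j ∣ 2 ^ k := by
    refine Nat.Coprime.dvd_of_dvd_mul_right ?_ hdvd
    exact Nat.Coprime.pow_left _ (Nat.coprime_two_left.2 hm)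
  have heq : f.range = (Q : Subgroup G) :=
    Subgroup.eq_of_le_of_card_ge hQ (by rw [hc, hj]; exact Nat.le_of_dvd (by positivity) h1)
  exact ⟨(P.equiv Q).trans ((MulEquiv.subgroupCongr heq.symm).trans
    (MonoidHom.ofInjective hinj).symm)⟩

variable {F : Type u} [Field F] [CharP F 2] {σ : F →+* F} [hi : Inv2 σ]

/-- The upper unitriangular matrix of a pair. -/
def triMat (x : Heis σ) : Matrix (Fin 3) (Fin 3) F := !![1, σ x.a, x.b; 0, 1, x.a; 0, 0, 1]

/-- The matrix hom. -/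
def triHom : Heis σ →* SpecialLinearGroup (Fin 3) F where
  toFun x := ⟨triMat x, by simp [triMat, det_fin_three]⟩
  map_one' := by
    refine Subtype.ext ?_
    show triMat (1 : Heis σ) = 1
    ext i j
    fin_cases i <;> fin_cases j <;> simp [triMat]
  map_mul' x y := by
    refine Subtype.ext ?_
    show triMat (x * y) = triMat x * triMat y
    ext i j
    fin_cases i <;> fin_cases j <;>
      simp [triMat, Matrix.mul_apply, Fin.sum_univ_three] <;> ring

/-- The change of basis. -/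
def baseChange (α : F) : SpecialLinearGroup (Fin 3) F :=
  ⟨!![1, 0, α; 1, 0, α + 1; 0, 1, 0], by
    simp [det_fin_three]
    exact CharTwo.neg_eq 1⟩

variable (q : ℕ) (hσ : ∀ x, σ x = x ^ q)
include hσ

theorem conj_mem {α : F} (hα : α + σ α = 1) (x : Heis σ) :
    baseChange α * triHom x * (baseChange α)⁻¹ ∈ Cfsg.SU 3 F q := by
  have e2 : (2 : F) = 0 := CharTwo.two_eq_zero
  rw [HermSU.mem_SU_iff hσ]
  set P := baseChange α with hP
  set Q := P⁻¹ with hQ
  have k1 : P.1ᵀ * P.1.map σ = !![0, 0, 1; 0, 1, 0; 1, 0, 0] := by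
    ext i j
    fin_cases i <;> fin_cases j <;>
      simp [hP, baseChange, Matrix.mul_apply, Fin.sum_univ_three, CharTwo.add_self_eq_zero]
    · linear_combination σ α * e2
    · linear_combination α * e2
    · linear_combination hα + (α * σ α + 1) * e2
  have k2 : (triHom x).1ᵀ * !![0, 0, 1; 0, 1, 0; 1, 0, 0] * (triHom x).1.map σ =
      !![0, 0, 1; 0, 1, 0; 1, 0, 0] := by
    have h := x.eq
    show (triMat x)ᵀ * _ * (triMat x).map σ = _
    ext i j
    fin_cases i <;> fin_cases j <;>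
      simp [triMat, Matrix.mul_apply, Fin.sum_univ_three, hi.inv2]
    · linear_combination (σ x.a) * e2
    · linear_combination (x.a) * e2
    · linear_combination h
  have hPQ : P.1 * Q.1 = 1 := by
    have := congrArg Subtype.val (mul_inv_cancel P)
    rw [← hQ] at this
    exact this
  show (P.1 * (triHom x).1 * Q.1)ᵀ * (P.1 * (triHom x).1 * Q.1).map σ = 1
  rw [Matrix.transpose_mul,
    Matrix.transpose_mul, Matrix.map_mul, Matrix.map_mul]
  calc Q.1ᵀ * ((triHom x).1ᵀ * P.1ᵀ) * (P.1.map σ * (triHom x).1.map σ * Q.1.map σ)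
      = Q.1ᵀ * ((triHom x).1ᵀ * (P.1ᵀ * P.1.map σ) * (triHom x).1.map σ) * Q.1.map σ := by
        simp only [Matrix.mul_assoc]
    _ = Q.1ᵀ * (P.1ᵀ * P.1.map σ) * Q.1.map σ := by rw [k1, k2]
    _ = (P.1 * Q.1)ᵀ * (P.1 * Q.1).map σ := by
        simp only [Matrix.transpose_mul, Matrix.map_mul, Matrix.mul_assoc]
    _ = 1 := by rw [hPQ]; simp

/-- The embedding of the pairs. -/
def embed {α : F} (hα : α + σ α = 1) : Heis σ →* Cfsg.SU 3 F q :=
  ((MulAut.conj (baseChange α)).toMonoidHom.comp triHom).codRestrict _ fun x => conj_mem q hσ hα x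

theorem embed_injective {α : F} (hα : α + σ α = 1) : Function.Injective (embed q hσ hα) := by
  intro x y h
  have h1 : (MulAut.conj (baseChange α)) (triHom x) = (MulAut.conj (baseChange α)) (triHom y) :=
    congrArg Subtype.val h
  have h2 := congrArg Subtype.val ((MulAut.conj (baseChange α)).injective h1)
  exact Heis.ext (congrFun (congrFun h2 1) 2) (congrFun (congrFun h2 0) 2)

omit hσ

/-- The data attached to a field of order `4 ^ n`. -/
theorem setup {F : Type u} [Field F] [Fintype F] {n : ℕ} (hn : 1 ≤ n)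
    (hF : Fintype.card F = (2 ^ n) ^ 2) :
    ∃ (_ : CharP F 2) (σ : F →+* F) (_ : Inv2 σ), σ ≠ RingHom.id F ∧ (∀ x, σ x = x ^ 2 ^ n) ∧
      Nat.card (fixed σ) = 2 ^ n := by
  haveI : CharP F 2 := by
    haveI : Fact (Nat.Prime 2) := ⟨Nat.prime_two⟩
    refine charP_of_card_eq_prime_pow (p := 2) (f := n * 2) ?_
    rw [hF, ← pow_mul]
  obtain ⟨σ, hσ, hne, hinv, hq, -⟩ := HermStd.exists_sigma hF
  exact ⟨‹_›, σ, ⟨hinv⟩, hne, hσ, hq⟩

theorem card_SU3 [Fintype F] (hne : σ ≠ RingHom.id F) {q : ℕ} (hσ : ∀ x, σ x = x ^ q)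
    (hq : Nat.card (fixed σ) = q) :
    Nat.card (Cfsg.SU 3 F q) = q ^ 3 * ((q ^ 2 - 1) * (q ^ 3 + 1)) := by
  have h := HermSU.card_SU_mul hne hi.inv2 hσ (n := 3) (by norm_num) hq
  rw [HermStd.card_GU hne hi.inv2 hσ 3 hq, Finset.prod_range_succ, Finset.prod_range_succ,
    Finset.prod_range_succ, Finset.prod_range_zero, if_pos (by decide), if_neg (by decide),
    if_pos (by decide)] at h
  norm_num at h
  refine Nat.eq_of_mul_eq_mul_left (show 0 < q + 1 by omega) ?_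
  rw [h]
  ring

theorem odd_rest (n : ℕ) (hn : 1 ≤ n) :
    Odd (((2 ^ n) ^ 2 - 1) * ((2 ^ n) ^ 3 + 1)) := by
  refine Odd.mul (Nat.Even.sub_odd (Nat.one_le_pow _ _ (by positivity)) ?_ odd_one) ?_
  · exact (Nat.even_pow.2 ⟨Nat.even_pow.2 ⟨even_two, by omega⟩, two_ne_zero⟩)
  · exact (Nat.even_pow.2 ⟨Nat.even_pow.2 ⟨even_two, by omega⟩, by norm_num⟩).add_one

theorem exists_alpha [Fintype F] (hne : σ ≠ RingHom.id F) : ∃ α : F, α + σ α = 1 :=
  exists_trace hne hi.inv2 (map_one σ)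

theorem sylow_SU_equiv [Fintype F] (hne : σ ≠ RingHom.id F) {n : ℕ} (hn : 1 ≤ n)
    (hσ : ∀ x, σ x = x ^ 2 ^ n) (hq : Nat.card (fixed σ) = 2 ^ n)
    (P : Sylow 2 ↥(Cfsg.SU 3 F (2 ^ n))) :
    Nonempty (↥(P : Subgroup ↥(Cfsg.SU 3 F (2 ^ n))) ≃* Heis σ) := by
  obtain ⟨α, hα⟩ := exists_alpha hne
  exact exists_equiv_sylow (embed _ hσ hα) (embed_injective _ hσ hα)
    (by rw [Heis.card_eq hne hq, ← pow_mul]) (by rw [card_SU3 hne hσ hq, pow_mul]) (odd_rest n hn) P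

theorem sylow_PSU_equiv [Fintype F] (hne : σ ≠ RingHom.id F) {n : ℕ} (hn : 1 ≤ n)
    (hσ : ∀ x, σ x = x ^ 2 ^ n) (hq : Nat.card (fixed σ) = 2 ^ n)
    (P : Sylow 2 (Cfsg.PSU 3 F (2 ^ n))) :
    Nonempty (↥(P : Subgroup (Cfsg.PSU 3 F (2 ^ n))) ≃* Heis σ) := by
  obtain ⟨α, hα⟩ := exists_alpha hne
  set G := Cfsg.SU 3 F (2 ^ n)
  have hZ : Nat.card (Subgroup.center G) = Nat.gcd 3 (2 ^ n + 1) :=
    HermSU.card_center_SU hne hi.inv2 hσ (by norm_num) hq
  have hodd : Odd (Nat.gcd 3 (2 ^ n + 1)) :=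
    Odd.of_dvd_nat (by decide) (Nat.gcd_dvd_left 3 _)
  have hker : ((QuotientGroup.mk' (Subgroup.center G)).comp (embed _ hσ hα)).ker = ⊥ := by
    refine (Subgroup.eq_bot_iff_forall _).2 fun x hx => ?_
    rw [MonoidHom.mem_ker, MonoidHom.comp_apply, QuotientGroup.mk'_apply,
      QuotientGroup.eq_one_iff] at hx
    refine embed_injective _ hσ hα ((map_one (embed _ hσ hα)).symm ▸ ?_)
    refine orderOf_eq_one_iff.1 (Nat.eq_one_of_dvd_coprimes (a := 2 ^ 2) (b := Nat.gcd 3 (2 ^ n + 1))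
      (Nat.Coprime.pow_left _ (Nat.coprime_two_left.2 hodd)) ?_ ?_)
    · refine (orderOf_map_dvd (embed _ hσ hα) x).trans (orderOf_dvd_of_pow_eq_one ?_)
      rw [show 2 ^ 2 = 2 * 2 from rfl, pow_mul, pow_two x, pow_two]
      simp [Heis.mul_self_eq_one_iff, CharTwo.add_self_eq_zero]
    · rw [← hZ, ← Subgroup.orderOf_mk _ hx]
      exact orderOf_dvd_natCard _
  have hcard : Nat.card (Cfsg.PSU 3 F (2 ^ n)) * Nat.gcd 3 (2 ^ n + 1) =
      (2 ^ n) ^ 3 * (((2 ^ n) ^ 2 - 1) * ((2 ^ n) ^ 3 + 1)) := by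
    rw [← hZ, ← card_SU3 hne hσ hq]
    exact (Subgroup.card_eq_card_quotient_mul_card_subgroup (Subgroup.center G)).symm
  have hdvd : Nat.gcd 3 (2 ^ n + 1) ∣ ((2 ^ n) ^ 2 - 1) * ((2 ^ n) ^ 3 + 1) :=
    (Nat.Coprime.dvd_mul_left (Nat.Coprime.symm (Nat.Coprime.pow_left _ (Nat.Coprime.pow_left _
      (Nat.coprime_two_left.2 hodd))))).1 ⟨_, hcard.symm.trans (mul_comm _ _)⟩
  obtain ⟨m, hm⟩ := hdvd
  refine exists_equiv_sylow _ ((MonoidHom.ker_eq_bot_iff _).1 hker)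
    (by rw [Heis.card_eq hne hq, ← pow_mul]) (m := m) ?_ ?_ P
  · refine Nat.eq_of_mul_eq_mul_right hodd.pos (hcard.trans ?_)
    rw [hm, pow_mul]; ring
  · have := odd_rest n hn
    rw [hm] at this
    exact (Nat.odd_mul.1 this).2

end Cfsg.Agent.SU3Sylow
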