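/-
Additive maps compatible with the norm form of a quadratic extension of finite fields of
characteristic two.
-/
import Cfsg.Agent.Lib.SU3Sylow.Heis

set_option autoImplicit false

namespace Cfsg.Agent.SU3Sylow

open Hermitian

universe u

variable {F : Type u} [Field F] [CharP F 2] {σ : F →+* F} [hi : Inv2 σ]

instance : CharP (fixed σ) 2 :=
  (RingHom.charP_iff (fixed σ).subtype Subtype.coe_injective 2).2 ‹_›

/-- The norm. -/
def nrm (a : F) : fixed σ := ⟨a * σ a, Heis.fixed_norm a⟩

/-- The polar form of the norm. -/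
def trc (a c : F) : fixed σ :=
  ⟨σ a * c + σ c * a, by rw [mem_fixed, map_add, map_mul, map_mul, hi.inv2, hi.inv2]; ring⟩

@[simp] theorem nrm_val (a : F) : (nrm (σ := σ) a).1 = a * σ a := rfl
@[simp] theorem trc_val (a c : F) : (trc (σ := σ) a c).1 = σ a * c + σ c * a := rfl

theorem nrm_add (a c : F) : nrm (σ := σ) (a + c) = nrm a + nrm c + trc a c :=
  Subtype.ext (by simp only [Subfield.coe_add, nrm_val, trc_val, map_add]; ring)

theorem nrm_smul (u : F) (l : fixed σ) : nrm (σ := σ) (u * l) = nrm u * (l * l) :=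
  Subtype.ext (by simp only [Subfield.coe_mul, nrm_val, map_mul, mem_fixed.1 l.2]; ring)

theorem trc_smul (u v : F) (l m : fixed σ) :
    trc (σ := σ) (u * l) (v * m) = trc u v * (l * m) :=
  Subtype.ext (by
    simp only [Subfield.coe_mul, trc_val, map_mul, mem_fixed.1 l.2, mem_fixed.1 m.2]; ring)

theorem trc_self (u : F) : trc (σ := σ) u u = 0 :=
  Subtype.ext (by simp [CharTwo.add_self_eq_zero])

theorem trc_eq_zero {u : F} (hu : u ≠ 0) {x : F} (h : trc (σ := σ) u x = 0) :
    ∃ l : fixed σ, x = u * l := by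
  have h1 : σ u * x + σ x * u = 0 := congrArg Subtype.val h
  have hσu : σ u ≠ 0 := (map_ne_zero σ).2 hu
  refine ⟨⟨x / u, ?_⟩, by field_simp⟩
  rw [mem_fixed, map_div₀, div_eq_div_iff hσu hu, ← CharTwo.add_eq_zero]
  linear_combination h1

theorem nrm_eq_zero {a : F} (h : nrm (σ := σ) a = 0) : a = 0 := by
  have h1 : a * σ a = 0 := congrArg Subtype.val h
  rcases mul_eq_zero.1 h1 with h2 | h2
  · exact h2
  · exact (map_eq_zero σ).1 h2

theorem decomp {u v : F} (hu : u ≠ 0) (hc : trc (σ := σ) u v ≠ 0) (x : F) :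
    ∃ l m : fixed σ, x = u * l + v * m := by
  set m := trc (σ := σ) u x / trc u v with hm
  obtain ⟨l, hl⟩ := trc_eq_zero (σ := σ) hu (x := x + v * m) (Subtype.ext (by
    have e : (m : F) * (trc (σ := σ) u v).1 = (trc (σ := σ) u x).1 := by
      rw [← Subfield.coe_mul, hm, div_mul_cancel₀ _ hc]
    simp only [trc_val, ZeroMemClass.coe_zero, map_add, map_mul, mem_fixed.1 m.2] at e ⊢
    linear_combination e + (σ u * x + σ x * u) * (CharTwo.two_eq_zero (R := F))))
  exact ⟨l, m, by rw [← hl, add_assoc, CharTwo.add_self_eq_zero, add_zero]⟩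

theorem nrm_surjective [Finite F] (hne : σ ≠ RingHom.id F) (c : fixed σ) :
    ∃ a, nrm (σ := σ) a = c := by
  haveI := Fintype.ofFinite F
  obtain ⟨a, ha⟩ := exists_norm hne hi.inv2 c.2
  exact ⟨a, Subtype.ext ha⟩

/-- Every element fixed by an involutory field automorphism is of the form `l² + l`. -/
theorem exists_artin_schreier {K : Type u} [Field K] [CharP K 2] [Finite K] {α : K → K}
    (hadd : ∀ x y, α (x + y) = α x + α y) (hmul : ∀ x y, α (x * y) = α x * α y)
    (hinv : ∀ x, α (α x) = x) (hne : ∃ x, α x ≠ x) {r : K} (hr : α r = r) :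
    ∃ l, l * l + l = r := by
  classical
  haveI := Fintype.ofFinite K
  obtain ⟨w, hw⟩ := hne
  have h0 : w + α w ≠ 0 := fun h => hw (CharTwo.add_eq_zero.1 h).symm
  have hα0 : α 0 = 0 := by
    have e := hadd 0 0
    rwa [add_zero, CharTwo.add_self_eq_zero] at e
  have hα1 : α 1 = 1 := by
    have e := hmul 1 1
    rw [one_mul] at e
    refine (mul_eq_left₀ fun h => one_ne_zero (α := K) ?_).1 e.symm
    rw [← hinv 1, h, hα0]
  have hinv' : ∀ x, α x⁻¹ = (α x)⁻¹ := fun x => by
    rcases eq_or_ne x 0 with rfl | hx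
    · rw [inv_zero, hα0, inv_zero]
    · refine eq_inv_of_mul_eq_one_left ?_
      rw [← hmul, inv_mul_cancel₀ hx, hα1]
  set z := w / (w + α w) with hz
  have hzα : z + α z = 1 := by
    have : α z = α w / (w + α w) := by
      rw [hz, div_eq_mul_inv, hmul, hinv', hadd, hinv, add_comm (α w) w, div_eq_mul_inv]
    rw [this, hz, ← add_div, div_self h0]
  set K1 := Finset.univ.filter fun x : K => α x = x with hK1
  set Y := K1 ∪ K1.image (fun x => z + x) with hY
  have hdisj : Disjoint K1 (K1.image fun x => z + x) := by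
    rw [Finset.disjoint_left]
    intro x hx hx'
    obtain ⟨y, hy, rfl⟩ := Finset.mem_image.1 hx'
    simp only [hK1, Finset.mem_filter, Finset.mem_univ, true_and] at hx hy
    rw [hadd, hy, add_left_inj] at hx
    rw [hx, CharTwo.add_self_eq_zero] at hzα
    exact zero_ne_one hzα
  have hcard : Y.card = 2 * K1.card := by
    rw [hY, Finset.card_union_of_disjoint hdisj,
      Finset.card_image_of_injective _ (add_right_injective z)]
    ring
  set g := fun x : K => x * x + x with hg
  have hsub : Y.image g ⊆ K1 := by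
    intro t ht
    obtain ⟨x, hx, rfl⟩ := Finset.mem_image.1 ht
    simp only [hK1, Finset.mem_filter, Finset.mem_univ, true_and, hg]
    rw [hadd, hmul]
    rcases Finset.mem_union.1 hx with hx | hx
    · simp only [hK1, Finset.mem_filter, Finset.mem_univ, true_and] at hx
      rw [hx]
    · obtain ⟨y, hy, rfl⟩ := Finset.mem_image.1 hx
      simp only [hK1, Finset.mem_filter, Finset.mem_univ, true_and] at hy
      have e : α z = 1 + z := by linear_combination hzα - z * (CharTwo.two_eq_zero (R := K))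
      rw [hadd, hy, e]
      linear_combination (z + y + 1) * (CharTwo.two_eq_zero (R := K))
  have hfib : ∀ t ∈ Y.image g, (Y.filter fun x => g x = t).card ≤ 2 := by
    intro t ht
    obtain ⟨x0, -, rfl⟩ := Finset.mem_image.1 ht
    refine (Finset.card_le_card (t := {x0, x0 + 1}) fun x hx => ?_).trans Finset.card_le_two
    have hx' := (Finset.mem_filter.1 hx).2
    have : (x + x0) * (x + x0 + 1) = 0 := by
      simp only [hg] at hx'
      linear_combination hx' + (x0 * x0 + x0 + x * x0) * (CharTwo.two_eq_zero (R := K))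
    rcases mul_eq_zero.1 this with h | h
    · simp [CharTwo.add_eq_zero.1 h]
    · simp [CharTwo.add_eq_zero.1 (show x + (x0 + 1) = 0 by rw [← add_assoc]; exact h)]
  have hle := Finset.card_le_mul_card_image (f := g) Y 2 hfib
  have heq : Y.image g = K1 :=
    Finset.eq_of_subset_of_card_le hsub (by omega)
  have : r ∈ Y.image g := by rw [heq]; simp [hK1, hr]
  obtain ⟨l, -, hl⟩ := Finset.mem_image.1 this
  exact ⟨l, hl⟩

/-- An additive map of `F` and one of the fixed field intertwined by the norm. -/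
structure NormPair (σ : F →+* F) [Inv2 σ] where
  A : F ≃+ F
  B : fixed σ ≃+ fixed σ
  comp : ∀ a, B (nrm a) = nrm (A a)

namespace NormPair

variable (P : NormPair σ)

theorem trc_comp (a c : F) : P.B (trc a c) = trc (P.A a) (P.A c) := by
  have h := P.comp (a + c)
  rw [nrm_add, map_add, map_add, P.comp, P.comp, map_add P.A, nrm_add] at h
  exact add_left_cancel h

theorem exists_alpha {u v : F} (hu : u ≠ 0) (hA : P.A u = v) (hv : v ≠ 0) :
    ∃ α : fixed σ → fixed σ, (∀ l : fixed σ, P.A (u * l) = v * α l) ∧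
      (∀ l m, α (l + m) = α l + α m) ∧ α 1 = 1 := by
  have h : ∀ l : fixed σ, ∃ l' : fixed σ, P.A (u * l) = v * l' := by
    intro l
    refine trc_eq_zero hv ?_
    have e : trc (σ := σ) (u * (1 : fixed σ)) (u * l) = 0 := by rw [trc_smul, trc_self, zero_mul]
    rw [OneMemClass.coe_one, mul_one] at e
    rw [← hA, ← P.trc_comp, e, map_zero]
  choose α hα using h
  refine ⟨α, hα, fun l m => ?_, ?_⟩
  · refine Subtype.ext (mul_left_cancel₀ hv ?_)
    rw [← hα, Subfield.coe_add, Subfield.coe_add, mul_add, mul_add, map_add, hα, hα]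
  · refine Subtype.ext (mul_left_cancel₀ hv ?_)
    rw [← hα, OneMemClass.coe_one, mul_one, mul_one, hA]

theorem exists_sq_root [Finite F] (c : fixed σ) : ∃ l : fixed σ, l * l = c := by
  obtain ⟨l, hl⟩ := isSquare_of_charTwo' c
  exact ⟨l, hl.symm⟩

/-- An involutory pair acts trivially on the fixed field. -/
theorem B_eq_id [Finite F] (hne : σ ≠ RingHom.id F) (hA : ∀ a, P.A (P.A a) = a)
    (c : fixed σ) : P.B c = c := by
  classical
  haveI := Fintype.ofFinite F
  obtain ⟨u, hu, huA⟩ : ∃ u : F, u ≠ 0 ∧ P.A u = u := by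
    by_cases h : (1 : F) + P.A 1 = 0
    · exact ⟨1, one_ne_zero, (CharTwo.add_eq_zero.1 h).symm⟩
    · exact ⟨_, h, by rw [map_add, hA, add_comm]⟩
  obtain ⟨α, hα, hαadd, hα1⟩ := P.exists_alpha hu huA hu
  have hαinv : ∀ l, α (α l) = l := fun l => by
    refine Subtype.ext (mul_left_cancel₀ hu ?_)
    rw [← hα, ← hα, hA]
  have hc0 : nrm (σ := σ) u ≠ 0 := fun h => hu (nrm_eq_zero h)
  have key : ∀ l : fixed σ, P.B (nrm u * (l * l)) = nrm u * (α l * α l) := fun l => by
    rw [← nrm_smul, P.comp, hα, nrm_smul]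
  by_cases hid : ∀ l, α l = l
  · obtain ⟨l, hl⟩ := exists_sq_root (c / nrm u)
    have h := key l
    rwa [hid, hl, mul_div_cancel₀ _ hc0] at h
  exfalso
  push_neg at hid
  obtain ⟨v, hvA, hvK⟩ : ∃ v, P.A v = v ∧ trc (σ := σ) u v ≠ 0 := by
    by_contra! hall
    let D : F →+ F := AddMonoidHom.id F + P.A.toAddMonoidHom
    let Ku : AddSubgroup F := (fixed σ).toSubring.toAddSubgroup.map (AddMonoidHom.mulLeft u)
    have hker : ∀ x, x ∈ D.ker ↔ P.A x = x := fun x => by
      rw [AddMonoidHom.mem_ker]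
      exact ⟨fun h => (CharTwo.add_eq_zero.1 h).symm, fun h => by
        show x + P.A x = 0
        rw [h, CharTwo.add_self_eq_zero]⟩
    have hle : D.ker ≤ Ku := fun x hx => by
      obtain ⟨l, hl⟩ := trc_eq_zero hu (hall x ((hker x).1 hx))
      exact ⟨l, l.2, hl.symm⟩
    have hrk : D.range ≤ D.ker := by
      rintro _ ⟨x, rfl⟩
      rw [hker]
      show P.A (x + P.A x) = x + P.A x
      rw [map_add, hA, add_comm]
    have hKu : Nat.card Ku = Nat.card (fixed σ) :=
      (Nat.card_congr (AddSubgroup.equivMapOfInjective _ _ (mul_right_injective₀ hu)).toEquiv).symm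
    have hprod : Nat.card D.range * Nat.card D.ker = Nat.card F := by
      rw [← Nat.card_congr (QuotientAddGroup.quotientKerEquivRange D).toEquiv,
        ← AddSubgroup.card_eq_card_quotient_mul_card_addSubgroup]
    have h1 : Nat.card D.range ≤ Nat.card D.ker :=
      Nat.le_of_dvd Nat.card_pos (AddSubgroup.card_dvd_of_le hrk)
    have h2 : Nat.card D.ker ≤ Nat.card Ku :=
      Nat.le_of_dvd Nat.card_pos (AddSubgroup.card_dvd_of_le hle)
    rw [card_eq_sq hne hi.inv2, ← hKu] at hprod
    have h3 : Nat.card Ku ≤ Nat.card D.ker := by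
      by_contra h
      push_neg at h
      have : Nat.card D.range * Nat.card D.ker < Nat.card Ku * Nat.card Ku :=
        lt_of_le_of_lt (Nat.mul_le_mul_right _ h1) (Nat.mul_lt_mul_of_lt_of_lt h h)
      rw [hprod, pow_two] at this
      exact lt_irrefl _ this
    obtain ⟨l, hl⟩ := hid
    apply hl
    have hm : u * (l : F) ∈ D.ker := by
      rw [AddSubgroup.eq_of_le_of_card_ge hle h3]
      exact ⟨l, l.2, rfl⟩
    have e := (hker _).1 hm
    rw [hα] at e
    exact Subtype.ext (mul_left_cancel₀ hu e)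
  have hv : v ≠ 0 := by
    rintro rfl
    exact hvK (Subtype.ext (by simp))
  obtain ⟨β, hβ, -, hβ1⟩ := P.exists_alpha hv hvA hv
  set d := trc (σ := σ) u v with hd
  have hcross : ∀ l m, P.B (d * (l * m)) = d * (α l * β m) := fun l m => by
    rw [hd, ← trc_smul, P.trc_comp, hα, hβ, trc_smul]
  have hαβ : ∀ l, β l = α l := fun l => by
    have e1 := hcross l 1
    have e2 := hcross 1 l
    rw [mul_one, hβ1, mul_one] at e1
    rw [one_mul, hα1, one_mul, e1] at e2
    exact (mul_left_cancel₀ hvK e2).symm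
  have hlin : ∀ l, P.B (d * l) = d * α l := fun l => by
    have e := hcross l 1
    rwa [mul_one, hβ1, mul_one] at e
  have hmul : ∀ l m, α (l * m) = α l * α m := fun l m => by
    have e := hcross l m
    rw [hlin, hαβ] at e
    exact mul_left_cancel₀ hvK e
  have hfix : ∀ w, P.A w = w → α (nrm w / d) = nrm w / d := fun w hw => by
    refine mul_left_cancel₀ hvK ?_
    rw [← hlin, mul_div_cancel₀ _ hvK, P.comp, hw]
  obtain ⟨l, hl⟩ := exists_artin_schreier hαadd hmul hαinv hid
    (r := nrm u / d * (nrm v / d)) (by rw [hmul, hfix u huA, hfix v hvA])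
  have h0 : nrm (σ := σ) (u * (l * d / nrm u : fixed σ) + v * (1 : fixed σ)) = 0 := by
    rw [nrm_add, nrm_smul, nrm_smul, trc_smul, ← hd]
    have e : nrm u * nrm v = d * d * (l * l + l) := by
      rw [hl]; field_simp
    have e2 : (2 : fixed σ) = 0 := CharTwo.two_eq_zero
    field_simp
    linear_combination e + (d * d * (l * l + l)) * e2
  have h1 := nrm_eq_zero h0
  rw [OneMemClass.coe_one, mul_one] at h1
  have hv' : v = u * (l * d / nrm u : fixed σ) := (CharTwo.add_eq_zero.1 h1).symm
  apply hvK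
  rw [hd, hv', show trc (σ := σ) u (u * ((l * d / nrm u : fixed σ) : F)) =
    trc (u * ((1 : fixed σ) : F)) (u * ((l * d / nrm u : fixed σ) : F)) by simp,
    trc_smul, trc_self, zero_mul]

/-- A pair fixing one is given by a field automorphism. -/
theorem exists_ringEquiv [Finite F] (hne : σ ≠ RingHom.id F) (hA1 : P.A 1 = 1) :
    ∃ f : F ≃+* F, ∀ a, P.A a = f a := by
  obtain ⟨α, hα, hαadd, hα1⟩ := P.exists_alpha one_ne_zero hA1 one_ne_zero
  simp only [one_mul] at hα
  obtain ⟨u2, hu2⟩ : ∃ u2, trc (σ := σ) 1 u2 ≠ 0 := by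
    by_contra! h
    refine hne (RingHom.ext fun x => ?_)
    have := congrArg Subtype.val (h x)
    simp only [trc_val, map_one, one_mul, mul_one, ZeroMemClass.coe_zero] at this
    exact (CharTwo.add_eq_zero.1 this).symm
  have hu20 : u2 ≠ 0 := by
    rintro rfl
    exact hu2 (Subtype.ext (by simp))
  set v := P.A u2 with hv
  have hd : trc (σ := σ) 1 v ≠ 0 := fun h => hu2 (P.B.injective (by
    rw [map_zero, P.trc_comp, hA1, ← hv, h]))
  have hv0 : v ≠ 0 := by
    intro h
    exact hd (Subtype.ext (by simp [h]))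
  obtain ⟨β, hβ, -, hβ1⟩ := P.exists_alpha hu20 hv.symm hv0
  set c := trc (σ := σ) 1 u2 with hc
  set d := trc (σ := σ) 1 v with hd'
  have hcross : ∀ l m, P.B (c * (l * m)) = d * (α l * β m) := fun l m => by
    rw [hc, ← trc_smul, P.trc_comp, one_mul, hα, hβ, hd', ← trc_smul, one_mul]
  have hlin : ∀ l, P.B (c * l) = d * α l := fun l => by
    have e := hcross l 1
    rwa [mul_one, hβ1, mul_one] at e
  have hαβ : ∀ l, β l = α l := fun l => by
    have e := hcross 1 l
    rw [one_mul, hα1, one_mul, hlin] at e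
    exact (mul_left_cancel₀ hd e).symm
  have hmul : ∀ l m, α (l * m) = α l * α m := fun l m => by
    have e := hcross l m
    rw [hlin, hαβ] at e
    exact mul_left_cancel₀ hd e
  have hB : ∀ l, P.B l = α l := fun l => by
    obtain ⟨r, rfl⟩ := exists_sq_root l
    have hn : ∀ x : fixed σ, nrm (σ := σ) (x : F) = x * x := fun x =>
      Subtype.ext (by simp [mem_fixed.1 x.2])
    have e := P.comp (r : F)
    rw [hα, hn, hn] at e
    rw [e, hmul]
  have hdc : d = α c := by
    have e := hlin 1
    rw [mul_one, hα1, mul_one, hB] at e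
    exact e.symm
  have he : nrm v = α (nrm u2) := by rw [← hB, P.comp]
  have hu2sq : u2 * u2 = u2 * (c : F) + (nrm (σ := σ) u2 : F) := by
    simp only [hc, trc_val, nrm_val, map_one, one_mul, mul_one]
    linear_combination -(u2 * σ u2) * (CharTwo.two_eq_zero (R := F))
  have hvsq : v * v = v * (α c : F) + (α (nrm u2) : F) := by
    rw [← hdc, ← he, hd']
    simp only [trc_val, nrm_val, map_one, one_mul, mul_one]
    linear_combination -(v * σ v) * (CharTwo.two_eq_zero (R := F))
  have hAsplit : ∀ l m : fixed σ, P.A ((l : F) + u2 * m) = (α l : F) + v * (α m : F) := fun l m => by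
    rw [map_add, hα, hβ, hαβ]
  refine ⟨{ P.A with map_mul' := fun x y => ?_ }, fun a => rfl⟩
  show P.A (x * y) = P.A x * P.A y
  obtain ⟨l, m, rfl⟩ := decomp one_ne_zero hu2 x
  obtain ⟨l', m', rfl⟩ := decomp one_ne_zero hu2 y
  simp only [one_mul]
  have : ((l : F) + u2 * m) * ((l' : F) + u2 * m') =
      ((l * l' + nrm u2 * (m * m') : fixed σ) : F) + u2 * ((l * m' + m * l' + c * (m * m') : fixed σ) : F) := by
    simp only [Subfield.coe_add, Subfield.coe_mul]
    linear_combination ((m : F) * m') * hu2sq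
  rw [this, hAsplit, hAsplit, hAsplit]
  simp only [hαadd, hmul, Subfield.coe_add, Subfield.coe_mul]
  linear_combination -((α m : F) * (α m' : F)) * hvsq

end NormPair

end Cfsg.Agent.SU3Sylow
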