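/-
Automorphisms of the Sylow 2-subgroup of SU₃(q), q even.
-/
import Cfsg.Agent.Lib.SU3Sylow.Pairs

set_option autoImplicit false

namespace Cfsg.Agent.SU3Sylow

open Hermitian

universe u

variable {F : Type u} [Field F] [CharP F 2] [Finite F] {σ : F →+* F} [hi : Inv2 σ]
variable (hne : σ ≠ RingHom.id F)

namespace Heis

include hne

omit [Finite F] in
theorem mul_cen_self (x : Heis σ) : x * x = cen (nrm x.a) := mul_self x

theorem apply_a_congr (φ : MulAut (Heis σ)) {x y : Heis σ} (h : x.a = y.a) :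
    (φ x).a = (φ y).a := by
  have h1 : x⁻¹ * y ∈ Subgroup.center (Heis σ) := by
    rw [mem_center_iff hne, mul_a, inv_a, h, CharTwo.add_self_eq_zero]
  have h2 : φ (x⁻¹ * y) ∈ Subgroup.center (Heis σ) := by
    rw [Subgroup.mem_center_iff]
    intro z
    rw [← φ.apply_symm_apply z, ← map_mul, ← map_mul, Subgroup.mem_center_iff.1 h1]
  rw [mem_center_iff hne, map_mul, map_inv, mul_a, inv_a] at h2
  exact CharTwo.add_eq_zero.1 h2

theorem apply_cen_a (φ : MulAut (Heis σ)) (c : fixed σ) : (φ (cen c)).a = 0 := by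
  rw [apply_a_congr hne φ (x := cen c) (y := 1) rfl, map_one]
  rfl

/-- The pair induced by an automorphism. -/
theorem exists_pair (φ : MulAut (Heis σ)) :
    ∃ P : NormPair σ, (∀ x : Heis σ, (φ x).a = P.A x.a) ∧ ∀ c, φ (cen c) = cen (P.B c) := by
  choose mk hmk using fun a : F => exists_mk (σ := σ) hne a
  let Af : MulAut (Heis σ) → F → F := fun ψ a => (ψ (mk a)).a
  have hAf : ∀ ψ x, (ψ x).a = Af ψ x.a := fun ψ x => apply_a_congr hne ψ (hmk _).symm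
  let Bf : MulAut (Heis σ) → fixed σ → fixed σ := fun ψ c =>
    ⟨(ψ (cen c)).b, b_fixed (apply_cen_a hne ψ c)⟩
  have hBf : ∀ ψ c, ψ (cen c) = cen (Bf ψ c) := fun ψ c => eq_cen (apply_cen_a hne ψ c)
  have hcen : ∀ c d : fixed σ, cen (c + d) = cen c * cen d := fun c d =>
    Heis.ext (by simp) (by simp)
  have hcinj : ∀ c d : fixed σ, cen c = cen d → c = d := fun c d h =>
    Subtype.ext (congrArg Heis.b h)
  have hA : ∀ a, Af φ⁻¹ (Af φ a) = a := fun a => by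
    rw [← hAf φ⁻¹ (φ (mk a))]
    simp [hmk]
  have hA' : ∀ a, Af φ (Af φ⁻¹ a) = a := fun a => by
    rw [← hAf φ (φ⁻¹ (mk a))]
    simp [hmk]
  have hB : ∀ c, Bf φ⁻¹ (Bf φ c) = c := fun c => hcinj _ _ (by rw [← hBf, ← hBf]; simp)
  have hB' : ∀ c, Bf φ (Bf φ⁻¹ c) = c := fun c => hcinj _ _ (by rw [← hBf, ← hBf]; simp)
  refine ⟨⟨⟨⟨Af φ, Af φ⁻¹, hA, hA'⟩, fun a b => ?_⟩, ⟨⟨Bf φ, Bf φ⁻¹, hB, hB'⟩, fun c d => ?_⟩,
    fun a => hcinj _ _ ?_⟩, fun x => hAf φ x, fun c => hBf φ c⟩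
  · show Af φ (a + b) = Af φ a + Af φ b
    rw [← hmk a, ← hmk b, ← mul_a, ← hAf, ← hAf, ← hAf, map_mul, mul_a]
  · show Bf φ (c + d) = Bf φ c + Bf φ d
    exact hcinj _ _ (by rw [hcen, ← hBf, ← hBf, ← hBf, hcen, map_mul])
  · show cen (Bf φ (nrm a)) = cen (nrm (Af φ a))
    rw [← hBf, ← hmk a, ← mul_cen_self hne, map_mul, mul_cen_self hne, hAf]

theorem fix_center_of_sq (φ : MulAut (Heis σ)) (h : ∀ x : Heis σ, (φ (φ x)).a = x.a) {z : Heis σ}
    (hz : z ∈ Subgroup.center (Heis σ)) : φ z = z := by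
  obtain ⟨P, hA, hB⟩ := exists_pair hne φ
  have hA2 : ∀ a, P.A (P.A a) = a := fun a => by
    obtain ⟨x, rfl⟩ := exists_mk (σ := σ) hne a
    rw [← hA, ← hA, h]
  rw [eq_cen ((mem_center_iff hne z).1 hz), hB, P.B_eq_id hne hA2]

/-- The automorphisms inducing the identity on the central quotient. -/
def fixQuot : Subgroup (MulAut (Heis σ)) where
  carrier := {φ | ∀ x : Heis σ, (φ x).a = x.a}
  one_mem' := fun x => rfl
  mul_mem' := fun {φ ψ} hφ hψ x => by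
    show (φ (ψ x)).a = x.a
    rw [hφ, hψ]
  inv_mem' := fun {φ} hφ x => by
    have := hφ (φ⁻¹ x)
    simpa using this.symm

omit hne in
theorem mem_fixQuot {φ : MulAut (Heis σ)} :
    φ ∈ fixQuot (σ := σ) ↔ ∀ x : Heis σ, (φ x).a = x.a := Iff.rfl

theorem fixQuot_center {φ : MulAut (Heis σ)} (hφ : φ ∈ fixQuot (σ := σ)) {z : Heis σ}
    (hz : z.a = 0) : φ z = z :=
  fix_center_of_sq hne φ (fun x => by rw [hφ, hφ]) ((mem_center_iff hne z).2 hz)

theorem fixQuot_delta {φ : MulAut (Heis σ)} (hφ : φ ∈ fixQuot (σ := σ)) (x : Heis σ) :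
    (x⁻¹ * φ x).a = 0 := by
  rw [mul_a, inv_a, hφ, CharTwo.add_self_eq_zero]

theorem fixQuot_mul_self {φ : MulAut (Heis σ)} (hφ : φ ∈ fixQuot (σ := σ)) : φ * φ = 1 := by
  refine MulEquiv.ext fun x => ?_
  have hz := fixQuot_center hne hφ (fixQuot_delta hne hφ x)
  show φ (φ x) = x
  have e : φ x = x * (x⁻¹ * φ x) := by group
  calc φ (φ x) = φ (x * (x⁻¹ * φ x)) := by rw [← e]
    _ = x * (x⁻¹ * φ x) * (x⁻¹ * φ x) := by rw [map_mul, hz, ← e]
    _ = x := by rw [mul_assoc, (mul_self_eq_one_iff _).2 (fixQuot_delta hne hφ x), mul_one]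

end Heis

end Cfsg.Agent.SU3Sylow
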