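/-
Structure of the automorphism group of the Sylow 2-subgroup of SU₃(q), q even.
-/
import Cfsg.Agent.Lib.SU3Sylow.Auto
import Cfsg.Agent.Lib.RankOne.FieldMaps
import Cfsg.Prelude.Def_Solvable
import Cfsg.Prelude.Def_Transfer

set_option autoImplicit false

namespace Cfsg.Agent.SU3Sylow

open Hermitian

universe u

variable {F : Type u} [Field F] [CharP F 2] [Finite F] {σ : F →+* F} [hi : Inv2 σ]
variable (hne : σ ≠ RingHom.id F)

namespace Heis

include hne

theorem comm_sigma (f : F ≃+* F) (x : F) : f (σ x) = σ (f x) := by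
  haveI := Fintype.ofFinite F
  rw [apply_eq_pow hne hi.inv2, apply_eq_pow hne hi.inv2, map_pow]

/-- Every automorphism is semilinear on the central quotient. -/
theorem exists_semilinear (φ : MulAut (Heis σ)) :
    ∃ (f : F ≃+* F) (m : Fˣ), ∀ x : Heis σ, (φ x).a = m * f x.a := by
  obtain ⟨P, hA, -⟩ := exists_pair hne φ
  have h1 : P.A 1 ≠ 0 := fun h => one_ne_zero (P.A.map_eq_zero_iff.1 h)
  set m : Fˣ := Units.mk0 _ h1 with hm
  obtain ⟨P', hA', -⟩ := exists_pair hne (scale (RingEquiv.refl F) (fun _ => rfl) m⁻¹ * φ)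
  have hrel : ∀ a, P'.A a = (↑m⁻¹ : F) * P.A a := fun a => by
    obtain ⟨x, rfl⟩ := exists_mk (σ := σ) hne a
    rw [← hA', ← hA]
    rfl
  obtain ⟨f, hf⟩ := P'.exists_ringEquiv hne (by rw [hrel, ← Units.val_mk0 h1, ← hm, Units.inv_mul])
  refine ⟨f, m, fun x => ?_⟩
  rw [hA, ← hf, hrel, Units.mul_inv_cancel_left]

/-- Automorphisms as triples. -/
noncomputable def decode : fixQuot (σ := σ) × Fˣ × (F ≃+* F) → MulAut (Heis σ) :=
  fun p => scale p.2.2 (comm_sigma hne p.2.2) p.2.1 * p.1.1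

theorem decode_a (k : fixQuot (σ := σ)) (m : Fˣ) (f : F ≃+* F) (x : Heis σ) :
    (decode hne (k, m, f) x).a = m * f x.a := by
  show (scale f (comm_sigma hne f) m (k.1 x)).a = _
  rw [scale_a, k.2]

theorem semilinear_unique {m m' : Fˣ} {f f' : F ≃+* F}
    (h : ∀ a, (m : F) * f a = m' * f' a) : m = m' ∧ f = f' := by
  have h1 := h 1
  rw [map_one, map_one, mul_one, mul_one] at h1
  refine ⟨Units.ext h1, RingEquiv.ext fun a => ?_⟩
  have := h a
  rw [h1] at this
  exact mul_left_cancel₀ m'.ne_zero this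

theorem decode_bijective : Function.Bijective (decode (σ := σ) hne) := by
  constructor
  · rintro ⟨k, m, f⟩ ⟨k', m', f'⟩ h
    obtain ⟨rfl, rfl⟩ := semilinear_unique hne (σ := σ) (m := m) (m' := m') (f := f) (f' := f') fun a => by
      obtain ⟨x, rfl⟩ := exists_mk (σ := σ) hne a
      rw [← decode_a hne k, ← decode_a hne k', h]
    exact congrArg (·, m, f) (Subtype.ext (mul_left_cancel h))
  · intro φ
    obtain ⟨f, m, h⟩ := exists_semilinear hne φ
    refine ⟨(⟨(scale f (comm_sigma hne f) m)⁻¹ * φ, fun x => ?_⟩, m, f), mul_inv_cancel_left _ _⟩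
    show f.symm ((↑m⁻¹ : F) * (φ x).a) = x.a
    rw [h, Units.inv_mul_cancel_left, RingEquiv.symm_apply_apply]

/-- The kernel on the central quotient is a group of homomorphisms. -/
noncomputable def fixQuotEquiv : fixQuot (σ := σ) ≃ (F →+ fixed σ) where
  toFun φ := AddMonoidHom.mk' (fun a => ⟨((exists_mk (σ := σ) hne a).choose⁻¹ *
      φ.1 (exists_mk (σ := σ) hne a).choose).b, b_fixed (fixQuot_delta hne φ.2 _)⟩) fun a c => by
    have key : ∀ x y : Heis σ, x.a = y.a → x⁻¹ * φ.1 x = y⁻¹ * φ.1 y := fun x y h => by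
      have hz : (x⁻¹ * y).a = 0 := by rw [mul_a, inv_a, h, CharTwo.add_self_eq_zero]
      have hy : y = x * (x⁻¹ * y) := by group
      rw [hy, map_mul, fixQuot_center hne φ.2 hz, mul_inv_rev]
      have hc := (Subgroup.mem_center_iff.1 ((mem_center_iff hne _).2 hz)) (x⁻¹ * φ.1 x)
      calc x⁻¹ * φ.1 x = (x⁻¹ * y)⁻¹ * ((x⁻¹ * y) * (x⁻¹ * φ.1 x)) := by group
        _ = _ := by rw [← hc]; group
    set u := (exists_mk (σ := σ) hne a).choose with hu
    set v := (exists_mk (σ := σ) hne c).choose with hv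
    have hzu := fixQuot_delta hne φ.2 u
    have hzv := fixQuot_delta hne φ.2 v
    have e := key (exists_mk (σ := σ) hne (a + c)).choose (u * v) (by
      rw [mul_a, hu, hv, (exists_mk (σ := σ) hne (a + c)).choose_spec,
        (exists_mk (σ := σ) hne a).choose_spec, (exists_mk (σ := σ) hne c).choose_spec])
    refine Subtype.ext ?_
    show ((exists_mk (σ := σ) hne (a + c)).choose⁻¹ *
      φ.1 (exists_mk (σ := σ) hne (a + c)).choose).b = (u⁻¹ * φ.1 u).b + (v⁻¹ * φ.1 v).b
    rw [e, map_mul, mul_inv_rev]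
    have hcu := (Subgroup.mem_center_iff.1 ((mem_center_iff hne _).2 hzu)) v⁻¹
    have : v⁻¹ * u⁻¹ * (φ.1 u * φ.1 v) = (u⁻¹ * φ.1 u) * (v⁻¹ * φ.1 v) := by
      calc v⁻¹ * u⁻¹ * (φ.1 u * φ.1 v) = v⁻¹ * (u⁻¹ * φ.1 u) * φ.1 v := by group
        _ = _ := by rw [hcu]; group
    rw [this, mul_b, hzu, map_zero, zero_mul, add_zero]
  invFun δ := ⟨MulEquiv.mk'
    { toFun := fun x => x * cen (δ x.a)
      invFun := fun x => x * cen (δ x.a)
      left_inv := fun x => by
        show x * cen (δ x.a) * cen (δ (x * cen (δ x.a)).a) = x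
        rw [mul_a, cen_a, add_zero, mul_assoc, (mul_self_eq_one_iff _).2 rfl, mul_one]
      right_inv := fun x => by
        show x * cen (δ x.a) * cen (δ (x * cen (δ x.a)).a) = x
        rw [mul_a, cen_a, add_zero, mul_assoc, (mul_self_eq_one_iff _).2 rfl, mul_one] }
    (fun x y => by
      refine Heis.ext ?_ ?_
      · simp
      · show (x * y * cen (δ (x * y).a)).b = (x * cen (δ x.a) * (y * cen (δ y.a))).b
        simp
        ring), fun x => by show (x * cen (δ x.a)).a = x.a; simp⟩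
  left_inv φ := Subtype.ext (MulEquiv.ext fun x => by
    set y := (exists_mk (σ := σ) hne x.a).choose with hy
    have hya : y.a = x.a := (exists_mk (σ := σ) hne x.a).choose_spec
    show x * cen ⟨(y⁻¹ * φ.1 y).b, _⟩ = φ.1 x
    rw [← eq_cen (fixQuot_delta hne φ.2 y)]
    have hz : (y⁻¹ * x).a = 0 := by rw [mul_a, inv_a, hya, CharTwo.add_self_eq_zero]
    have hcom := Subgroup.mem_center_iff.1 ((mem_center_iff hne _).2 hz)
    have hx : x = y * (y⁻¹ * x) := by group
    conv_rhs => rw [hx, map_mul, fixQuot_center hne φ.2 hz]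
    calc x * (y⁻¹ * φ.1 y) = y * ((y⁻¹ * x) * (y⁻¹ * φ.1 y)) := by group
      _ = φ.1 y * (y⁻¹ * x) := by rw [← hcom]; group)
  right_inv δ := AddMonoidHom.ext fun a => Subtype.ext (by
    set y := (exists_mk (σ := σ) hne a).choose with hy
    have hya : y.a = a := (exists_mk (σ := σ) hne a).choose_spec
    show (y⁻¹ * (y * cen (δ y.a))).b = δ a
    rw [inv_mul_cancel_left, cen_b, hya])

theorem card_fixQuot {n : ℕ} (hn : Nat.card (fixed σ) = 2 ^ n) :
    Nat.card (fixQuot (σ := σ)) = 2 ^ (2 * n ^ 2) := by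
  haveI : Fact (Nat.Prime 2) := ⟨Nat.prime_two⟩
  letI : Algebra (ZMod 2) F := ZMod.algebra _ 2
  letI : Algebra (ZMod 2) (fixed σ) := ZMod.algebra _ 2
  have h1 : Module.finrank (ZMod 2) F = 2 * n := by
    have h := Module.natCard_eq_pow_finrank (K := ZMod 2) (V := F)
    haveI := Fintype.ofFinite F
    rw [card_eq_sq hne hi.inv2, hn, Nat.card_zmod, ← pow_mul, mul_comm n 2] at h
    exact (Nat.pow_right_injective (le_refl 2) h).symm
  have h2 : Module.finrank (ZMod 2) (fixed σ) = n := by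
    have h := Module.natCard_eq_pow_finrank (K := ZMod 2) (V := fixed σ)
    rw [hn, Nat.card_zmod] at h
    exact (Nat.pow_right_injective (le_refl 2) h).symm
  let e : (F →+ fixed σ) ≃ (F →ₗ[ZMod 2] fixed σ) :=
    { toFun := fun f => f.toZModLinearMap 2
      invFun := fun f => f.toAddMonoidHom
      left_inv := fun f => rfl
      right_inv := fun f => rfl }
  rw [Nat.card_congr ((fixQuotEquiv hne).trans e), Module.natCard_eq_pow_finrank (K := ZMod 2),
    Nat.card_zmod, Module.finrank_linearMap, h1, h2]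
  ring_nf

theorem fixQuot_normal : (fixQuot (σ := σ)).Normal := ⟨fun k hk φ x => by
  obtain ⟨P, hA, -⟩ := exists_pair hne φ
  show (φ (k (φ⁻¹ x))).a = x.a
  rw [hA, hk, ← hA]
  simp⟩

theorem fixQuot_elementary : Cfsg.IsElementaryAbelian 2 (fixQuot (σ := σ)) := by
  have h2 : ∀ k : fixQuot (σ := σ), k * k = 1 := fun k => Subtype.ext (fixQuot_mul_self hne k.2)
  refine ⟨⟨⟨fun a b => ?_⟩⟩, fun a ha => by rw [pow_two, fixQuot_mul_self hne ha]⟩
  have ha := h2 a
  have hb := h2 b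
  have hab := h2 (a * b)
  calc a * b = a * b * ((b * a) * (b * a)) := by rw [h2, mul_one]
    _ = b * a := by
      rw [show a * b * (b * a * (b * a)) = a * (b * b) * (a * (b * a)) by group, hb, mul_one,
        ← mul_assoc, ha, one_mul]

theorem le_fixQuot {N : Subgroup (MulAut (Heis σ))} (hN : N.Normal) (h2 : IsPGroup 2 N) :
    N ≤ fixQuot (σ := σ) := by
  intro φ hφ
  obtain ⟨f, m, hφa⟩ := exists_semilinear hne φ
  have hroot : ∀ ψ ∈ N, ∀ ν : F, (∀ x : Heis σ, (ψ x).a = ν * x.a) → ν = 1 := by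
    intro ψ hψ ν h
    obtain ⟨j, hj⟩ := h2 ⟨ψ, hψ⟩
    have hpow : ∀ i (x : Heis σ), ((ψ ^ i) x).a = ν ^ i * x.a := by
      intro i
      induction i with
      | zero => intro x; simp
      | succ i ih =>
        intro x
        rw [pow_succ', MulAut.mul_apply, h, ih, pow_succ']
        ring
    obtain ⟨x, hx⟩ := exists_mk (σ := σ) hne 1
    have e := hpow (2 ^ j) x
    have hj' : ψ ^ 2 ^ j = 1 := congrArg Subtype.val hj
    rw [hj', MulAut.one_apply, hx, mul_one] at e
    have h0 : (ν + 1) ^ 2 ^ j = 0 := by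
      rw [add_pow_char_pow, ← e, one_pow, CharTwo.add_self_eq_zero]
    exact CharTwo.add_eq_zero.1 (eq_zero_of_pow_eq_zero h0)
  have hφinv : ∀ x : Heis σ, (φ⁻¹ x).a = f.symm ((↑m⁻¹ : F) * x.a) := fun x => by
    have h := hφa (φ⁻¹ x)
    rw [show φ (φ⁻¹ x) = x by simp] at h
    rw [h, Units.inv_mul_cancel_left, RingEquiv.symm_apply_apply]
  have hfix : ∀ μ : Fˣ, f μ = μ := by
    intro μ
    let s : MulAut (Heis σ) := scale (RingEquiv.refl F) (fun _ => rfl) μ
    have hc : φ * (s * φ⁻¹ * s⁻¹) ∈ N := N.mul_mem hφ (hN.conj_mem _ (N.inv_mem hφ) s)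
    have := hroot _ hc (f μ * (↑μ⁻¹ : F)) fun x => by
      show (φ (s (φ⁻¹ (s⁻¹ x)))).a = _
      rw [hφa, show (s (φ⁻¹ (s⁻¹ x))).a = (μ : F) * (φ⁻¹ (s⁻¹ x)).a from rfl, hφinv,
        show (s⁻¹ x).a = (↑μ⁻¹ : F) * x.a from rfl, map_mul, RingEquiv.apply_symm_apply]
      have hm : (m : F) * (↑m⁻¹ : F) = 1 := by simp
      linear_combination (f μ * ((↑μ⁻¹ : F) * x.a)) * hm
    rwa [Units.mul_inv_eq_one] at this
  have hid : ∀ a, f a = a := fun a => by
    rcases eq_or_ne a 0 with rfl | ha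
    · exact map_zero f
    · exact hfix (Units.mk0 a ha)
  have hm1 := hroot φ hφ m fun x => by rw [hφa, hid]
  intro x
  rw [hφa, hid, hm1, one_mul]

theorem pCore_eq : Cfsg.pCore 2 (MulAut (Heis σ)) = fixQuot := by
  refine le_antisymm (sSup_le fun N hN => le_fixQuot hne hN.1 hN.2)
    (le_sSup ⟨fixQuot_normal hne, fun k => ⟨1, ?_⟩⟩)
  rw [pow_one, pow_two]
  exact Subtype.ext (fixQuot_mul_self hne k.2)

theorem card_mulAut {n : ℕ} (hn : Nat.card (fixed σ) = 2 ^ n) :
    Nat.card (MulAut (Heis σ)) = 2 ^ (2 * n ^ 2) * (2 * n * ((2 ^ n) ^ 2 - 1)) := by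
  haveI := Fintype.ofFinite F
  rw [← Nat.card_congr (Equiv.ofBijective _ (decode_bijective (σ := σ) hne)), Nat.card_prod,
    Nat.card_prod, card_fixQuot hne hn, Nat.card_units, card_eq_sq hne hi.inv2, hn]
  have h := Cfsg.Agent.RankOne.FieldMaps.card_aut (F := F)
  rw [← Nat.card_eq_fintype_card, card_eq_sq hne hi.inv2, hn, ← pow_mul] at h
  rw [← Nat.pow_right_injective (le_refl 2) h]
  ring

end Heis

end Cfsg.Agent.SU3Sylow
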